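import Mathlib

/-!
# Two by two matrices for the covering of `PSp_4` by a semisimple class

The companion matrix `comp e` of an irreducible `X ^ 2 - X + e` with `e ≠ 1`: every non-scalar
matrix of determinant one and trace different from two is a product of a conjugate of `comp e` and
a conjugate of its inverse, no non-zero symmetric form is fixed by `comp e`, and its order is prime
to the characteristic.
-/

set_option autoImplicit false

namespace CfsgLib.Classical.SpFourCover

open Matrix

variable {F : Type*} [Field F]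

/-- `X ^ 2 - X + e` has no root and `e ≠ 1`. -/
structure GoodParam (e : F) : Prop where
  ne_one : e ≠ 1
  noroot : ∀ x : F, x * x - x + e ≠ 0

theorem GoodParam.ne_zero {e : F} (h : GoodParam e) : e ≠ 0 := fun h0 => h.noroot 0 (by simp [h0])

theorem GoodParam.disc {e : F} (h : GoodParam e) : (1 : F) ≠ 4 * e := by
  intro h4
  rcases eq_or_ne (2 : F) 0 with h2 | h2
  · exact one_ne_zero (by linear_combination h4 + 2 * e * h2 : (1 : F) = 0)
  · refine h.noroot (1 / 2) ?_
    field_simp
    linear_combination (-h4)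

theorem exists_goodParam [Fintype F] (hF : 3 ≤ Fintype.card F) : ∃ e : F, GoodParam e := by
  classical
  by_contra hno
  push Not at hno
  set φ : F → F := fun x => x - x * x with hφ
  have hsub : Finset.univ.erase 1 ⊆ Finset.univ.image φ := by
    intro e he
    by_contra hmem
    refine hno e ⟨(Finset.mem_erase.1 he).1, fun x hx => hmem ?_⟩
    exact Finset.mem_image.2 ⟨x, Finset.mem_univ _, by simp only [hφ]; linear_combination -hx⟩
  have hsym : ∀ x, φ (1 - x) = φ x := fun x => by simp only [hφ]; ring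
  rcases le_or_gt 4 (Fintype.card F) with h4 | h4
  · -- two pairs `{x, 1 - x}` are collapsed
    obtain ⟨a, ha⟩ : ∃ a : F, a ∉ ({0, 1, 1 / 2} : Finset F) := by
      by_contra h
      push Not at h
      have := Finset.card_le_card (s := (Finset.univ : Finset F)) (fun x _ => h x)
      rw [Finset.card_univ] at this
      have h3 := Finset.card_le_three (a := (0 : F)) (b := 1) (c := 1 / 2)
      omega
    simp only [Finset.mem_insert, Finset.mem_singleton, not_or] at ha
    obtain ⟨ha0, ha1, hah⟩ := ha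
    have haa : 1 - a ≠ a := by
      intro h
      rcases eq_or_ne (2 : F) 0 with h2 | h2
      · exact one_ne_zero (by linear_combination h + a * h2 : (1 : F) = 0)
      · exact hah (by field_simp; linear_combination -h)
    have himg : Finset.univ.image φ ⊆ (((Finset.univ : Finset F).erase 0).erase a).image φ := by
      intro y hy
      obtain ⟨x, -, rfl⟩ := Finset.mem_image.1 hy
      by_cases hx0 : x = 0
      · exact Finset.mem_image.2 ⟨1, by simp [Ne.symm ha1], by simp [hφ, hx0]⟩
      by_cases hxa : x = a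
      · exact Finset.mem_image.2 ⟨1 - a, by simp [haa, sub_eq_zero, Ne.symm ha1], by rw [hsym, hxa]⟩
      exact Finset.mem_image.2 ⟨x, by simp [hx0, hxa], rfl⟩
    have h := (Finset.card_le_card (hsub.trans himg)).trans Finset.card_image_le
    rw [Finset.card_erase_of_mem (Finset.mem_univ _),
      Finset.card_erase_of_mem (by simp [ha0]), Finset.card_erase_of_mem (Finset.mem_univ _),
      Finset.card_univ] at h
    omega
  · -- three elements: the values are `0` and `φ a`
    have hc : Fintype.card F = 3 := by omega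
    have hp : (3 : F) = 0 := by exact_mod_cast (hc ▸ FiniteField.cast_card_eq_zero F)
    have hm : (-1 : F) ≠ 1 := fun h => one_ne_zero (by linear_combination hp + h : (1 : F) = 0)
    refine hno (-1) ⟨hm, fun x hx => ?_⟩
    have hx3 : x ^ 3 = x := by simpa [hc] using FiniteField.pow_card x
    have h1 : x * 2 + 1 = x := by linear_combination hx3 - (x + 1) * hx
    exact one_ne_zero (show (1 : F) = 0 by linear_combination hx - (x - 2) * h1)

/-- A non-degenerate binary quadratic form over a finite field represents everything. -/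
theorem rep [Finite F] (t d k : F) (h : t * t ≠ 4 * d) :
    ∃ u w : F, u * u + t * u * w + d * (w * w) = k := by
  classical
  have := Fintype.ofFinite F
  rcases eq_or_ne (2 : F) 0 with h2 | h2
  · haveI : CharP F 2 := CharTwo.of_one_ne_zero_of_two_eq_zero one_ne_zero h2
    obtain ⟨u, hu⟩ := FiniteField.isSquare_of_char_two (by rw [ringChar.eq F 2]) k
    exact ⟨u, 0, by rw [hu]; ring⟩
  · have hodd : Fintype.card F % 2 = 1 := by
      rcases Nat.mod_two_eq_zero_or_one (Fintype.card F) with h0 | h0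
      · exfalso
        obtain ⟨p, hp⟩ := CharP.exists F
        haveI := hp
        obtain ⟨n, hpp, hn⟩ := FiniteField.card F p
        have h2p : 2 ∣ p := Nat.prime_two.dvd_of_dvd_pow (hn ▸ Nat.dvd_of_mod_eq_zero h0)
        exact h2 (by exact_mod_cast
          ((Nat.prime_dvd_prime_iff_eq Nat.prime_two hpp).1 h2p ▸ CharP.cast_eq_zero F p))
      · exact h0
    set c : F := d - t * t / 4 with hc
    have h4 : (4 : F) ≠ 0 := by
      rw [show (4 : F) = 2 * 2 by norm_num]; exact mul_ne_zero h2 h2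
    have hc0 : c ≠ 0 := by
      intro h0
      refine h ?_
      rw [hc, sub_eq_zero] at h0
      rw [h0]; field_simp
    open Polynomial in
    obtain ⟨a, b, hab⟩ := FiniteField.exists_root_sum_quadratic
      (f := X ^ 2 - C k) (g := C c * X ^ 2) (by rw [degree_X_pow_sub_C (by norm_num)]; rfl)
      (by rw [degree_C_mul hc0, degree_X_pow]; rfl) hodd
    simp only [Polynomial.eval_sub, Polynomial.eval_pow, Polynomial.eval_X, Polynomial.eval_C,
      Polynomial.eval_mul] at hab
    refine ⟨a - t * b / 2, b, ?_⟩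
    rw [hc] at hab
    field_simp at hab ⊢
    linear_combination hab

/-- The companion matrix of `X ^ 2 - t X + d`. -/
def cm (t d : F) : Matrix (Fin 2) (Fin 2) F := !![0, -d; 1, t]

/-- A non-scalar matrix is similar to its companion matrix. -/
theorem exists_cm (X : Matrix (Fin 2) (Fin 2) F) (hX : ¬ ∃ r : F, X = r • 1) :
    ∃ P : Matrix (Fin 2) (Fin 2) F, P.det ≠ 0 ∧ X * P = P * cm (X 0 0 + X 1 1) X.det := by
  rw [det_fin_two X]
  by_cases h10 : X 1 0 = 0
  · by_cases h01 : X 0 1 = 0
    · refine ⟨!![1, X 0 0; 1, X 1 1], ?_, ?_⟩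
      · rw [det_fin_two_of]
        intro h
        refine hX ⟨X 0 0, ?_⟩
        ext i j
        fin_cases i <;> fin_cases j <;> simp [h10, h01]
        linear_combination h
      · ext i j
        fin_cases i <;> fin_cases j <;> simp [cm, Matrix.mul_apply, Fin.sum_univ_two, h10, h01] <;>
          ring
    · refine ⟨!![0, X 0 1; 1, X 1 1], by rw [det_fin_two_of]; simpa using h01, ?_⟩
      ext i j
      fin_cases i <;> fin_cases j <;> simp [cm, Matrix.mul_apply, Fin.sum_univ_two, h10] <;> ring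
  · refine ⟨!![1, X 0 0; 0, X 1 0], by rw [det_fin_two_of]; simpa using h10, ?_⟩
    ext i j
    fin_cases i <;> fin_cases j <;> simp [cm, Matrix.mul_apply, Fin.sum_univ_two] <;> ring

/-- Similarity from equal trace and determinant. -/
theorem sim (X Y : Matrix (Fin 2) (Fin 2) F) (hX : ¬ ∃ r : F, X = r • 1) (hY : ¬ ∃ r : F, Y = r • 1)
    (ht : X 0 0 + X 1 1 = Y 0 0 + Y 1 1) (hd : X.det = Y.det) :
    ∃ P : Matrix (Fin 2) (Fin 2) F, P.det ≠ 0 ∧ X * P = P * Y := by
  obtain ⟨P, hP, hXP⟩ := exists_cm X hX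
  obtain ⟨Q, hQ, hYQ⟩ := exists_cm Y hY
  rw [ht, hd] at hXP
  have hQ' := isUnit_iff_ne_zero.2 hQ
  refine ⟨P * Q⁻¹, ?_, ?_⟩
  · rw [det_mul, det_nonsing_inv, Ring.inverse_eq_inv']
    exact mul_ne_zero hP (inv_ne_zero hQ)
  · rw [← Matrix.mul_assoc, hXP, Matrix.mul_assoc P, Matrix.mul_assoc P]
    congr 1
    calc cm _ _ * Q⁻¹ = Q⁻¹ * (Q * cm (Y 0 0 + Y 1 1) Y.det) * Q⁻¹ := by
          rw [← Matrix.mul_assoc Q⁻¹, nonsing_inv_mul _ hQ', Matrix.one_mul]
      _ = Q⁻¹ * (Y * Q) * Q⁻¹ := by rw [hYQ]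
      _ = Q⁻¹ * Y := by rw [Matrix.mul_assoc, Matrix.mul_assoc, mul_nonsing_inv _ hQ', Matrix.mul_one]

/-- The inverse of the companion matrix. -/
noncomputable def cmInv (e : F) : Matrix (Fin 2) (Fin 2) F := e⁻¹ • !![1, e; -1, 0]

theorem cm_mul_cmInv {e : F} (he : e ≠ 0) : cm 1 e * cmInv e = 1 := by
  ext i j
  fin_cases i <;> fin_cases j <;> simp [cm, cmInv, Matrix.mul_apply, Fin.sum_univ_two, he]

theorem cmInv_mul_cm {e : F} (he : e ≠ 0) : cmInv e * cm 1 e = 1 :=
  mul_eq_one_comm.1 (cm_mul_cmInv he)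

theorem not_scalar_of {X : Matrix (Fin 2) (Fin 2) F} (h : X 1 0 ≠ 0) : ¬ ∃ r : F, X = r • 1 := by
  rintro ⟨r, rfl⟩
  simp at h

/-- The factorisation of a matrix of determinant one as `X * Y`. -/
theorem exists_product [Finite F] {e : F} (he : GoodParam e) (A : Matrix (Fin 2) (Fin 2) F)
    (hA : ¬ ∃ r : F, A = r • 1) (hdet : A.det = 1) (htr : A 0 0 + A 1 1 ≠ 2) :
    ∃ P R : Matrix (Fin 2) (Fin 2) F, P.det ≠ 0 ∧ R.det ≠ 0 ∧
      A = (P * cm 1 e * P⁻¹) * (R * cmInv e * R⁻¹) := by
  set s := A 0 0 + A 1 1 with hs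
  have h0 := he.ne_zero
  have h4 : 4 * e - 1 ≠ 0 := sub_ne_zero.2 he.disc.symm
  -- the centre of the conic
  set a₀ := (2 * e * s - 1) / (4 * e - 1) with ha₀
  set c₀ := (2 - s) / (4 * e - 1) with hc₀
  have g1 : 2 * a₀ + c₀ = s := by
    rw [ha₀, hc₀, mul_div, ← add_div, div_eq_iff h4]; ring
  have g2 : a₀ + 2 * e * c₀ = 1 := by
    rw [ha₀, hc₀, mul_div, ← add_div, div_eq_iff h4]; ring
  obtain ⟨u, w, huw⟩ := rep 1 e (-(a₀ * a₀ + a₀ * c₀ + e * (c₀ * c₀) - s * a₀ - c₀ + 1))
    (by rw [one_mul]; exact he.disc)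
  set a := a₀ + u with ha
  set c := c₀ + w with hc
  have heq : a * a + a * c + e * (c * c) - s * a - c + 1 = 0 := by
    rw [ha, hc]
    linear_combination huw + u * g1 + w * g2
  set A' : Matrix (Fin 2) (Fin 2) F := !![a, a + e * c - 1; c, s - a] with hA'
  have hA's : ¬ ∃ r : F, A' = r • 1 := by
    rintro ⟨r, hr⟩
    have e1 := congrFun (congrFun hr 0) 1
    have e2 := congrFun (congrFun hr 1) 0
    have e3 := congrFun (congrFun hr 0) 0
    have e4 := congrFun (congrFun hr 1) 1
    simp [hA'] at e1 e2 e3 e4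
    refine htr ?_
    rw [e2, mul_zero, add_zero] at e1
    rw [sub_eq_zero] at e1
    rw [← e3, e1] at e4
    linear_combination e4
  obtain ⟨P, hP, hAP⟩ := sim A A' hA hA's (by simp [hA', hs]) (by
    rw [hdet, hA', det_fin_two_of]; linear_combination heq)
  set Y := cmInv e * A' with hY
  have hY0 : Y 0 0 + Y 1 1 = (cmInv e) 0 0 + (cmInv e) 1 1 := by
    simp [hY, hA', cmInv, Matrix.mul_apply, Fin.sum_univ_two]
    field_simp
    ring
  have hinvns : ¬ ∃ r : F, cmInv e = r • 1 := not_scalar_of (by simp [cmInv, h0])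
  have hYd : Y.det = (cmInv e).det := by
    rw [hY, det_mul, hA', det_fin_two_of,
      show a * (s - a) - (a + e * c - 1) * c = 1 by linear_combination -heq, mul_one]
  have hYs : ¬ ∃ r : F, Y = r • 1 := by
    rintro ⟨r, hr⟩
    have hc' : (cmInv e).det = r * r := by rw [← hYd, hr, det_smul, det_one]; simp [sq]
    have ht' : (cmInv e) 0 0 + (cmInv e) 1 1 = r + r := by rw [← hY0, hr]; simp
    simp [cmInv] at ht'
    rw [cmInv, det_smul, det_fin_two_of, Fintype.card_fin] at hc'
    field_simp at hc'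
    have hr2 : r * e + r * e = 1 := by rw [← add_mul, ← ht', inv_mul_cancel₀ h0]
    exact he.disc (by linear_combination -4 * hc' - (2 * r * e + 1) * hr2)
  obtain ⟨R, hR, hYR⟩ := sim Y (cmInv e) hYs hinvns hY0 hYd
  have hP' := isUnit_iff_ne_zero.2 hP
  have hR' := isUnit_iff_ne_zero.2 hR
  refine ⟨P, P * R, hP, by rw [det_mul]; exact mul_ne_zero hP hR, ?_⟩
  have hY' : R * cmInv e * R⁻¹ = Y := by
    rw [← hYR, Matrix.mul_assoc, mul_nonsing_inv _ hR', Matrix.mul_one]
  calc A = P * A' * P⁻¹ := by rw [← hAP, Matrix.mul_assoc, mul_nonsing_inv _ hP', Matrix.mul_one]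
    _ = P * (cm 1 e * Y) * P⁻¹ := by
        rw [hY, ← Matrix.mul_assoc (cm 1 e), cm_mul_cmInv h0, Matrix.one_mul]
    _ = (P * cm 1 e * P⁻¹) * (P * R * cmInv e * (P * R)⁻¹) := by
        rw [Matrix.mul_inv_rev, ← hY']
        simp only [Matrix.mul_assoc]
        rw [nonsing_inv_mul_cancel_left _ _ hP']

/-- No symmetric form is fixed by the companion matrix or by its transpose. -/
theorem fix_zero {e : F} (he : GoodParam e) (p r s : F) (h1 : s = p) (h2 : r * (1 + e) = s)
    (h3 : p = e * e * p - 2 * e * r + s) : p = 0 ∧ r = 0 ∧ s = 0 := by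
  subst h1
  have hm1 : 2 + e ≠ 0 := fun h => he.noroot (-1) (by linear_combination h)
  have key : (1 - e) * (e * (2 + e)) * s = 0 := by
    linear_combination (1 + e) * h3 - 2 * e * h2
  have hs : s = 0 :=
    (mul_eq_zero.1 key).resolve_left
      (mul_ne_zero (sub_ne_zero.2 he.ne_one.symm) (mul_ne_zero he.ne_zero hm1))
  subst hs
  refine ⟨rfl, ?_, rfl⟩
  rcases mul_eq_zero.1 h2 with hr | hr
  · exact hr
  · have he1 : e = -1 := by linear_combination hr
    have h2' : (2 : F) ≠ 0 := fun h => he.ne_one (by rw [he1]; linear_combination -h)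
    have : 2 * r = 0 := by linear_combination (-1 : F) * h3 + (2 * r) * he1
    exact (mul_eq_zero.1 this).resolve_left h2'

/-- Elements of `F + F c` which are nilpotent vanish. -/
theorem pow_ne_zero_of {e : F} (he : GoodParam e) (a b : F) (n : ℕ)
    (h : (a • (1 : Matrix (Fin 2) (Fin 2) F) + b • cm 1 e) ^ n = 0) : a = 0 ∧ b = 0 := by
  have hd : (a • (1 : Matrix (Fin 2) (Fin 2) F) + b • cm 1 e).det = 0 := by
    have := congrArg Matrix.det h
    rw [det_pow, Matrix.det_zero] at this
    exact pow_eq_zero_iff'.1 this |>.1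
  rw [det_fin_two] at hd
  simp [cm] at hd
  by_cases hb : b = 0
  · subst hb
    refine ⟨?_, rfl⟩
    simpa using hd
  · exfalso
    refine he.noroot (-(a / b)) ?_
    field_simp
    linear_combination hd

/-- The powers of the companion matrix lie in `F + F c`. -/
theorem pow_mem_span (e : F) (n : ℕ) :
    ∃ a b : F, cm 1 e ^ n = a • (1 : Matrix (Fin 2) (Fin 2) F) + b • cm 1 e := by
  induction n with
  | zero => exact ⟨1, 0, by simp⟩
  | succ n ih =>
    obtain ⟨a, b, h⟩ := ih
    refine ⟨-e * b, a + b, ?_⟩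
    rw [pow_succ, h]
    ext i j
    fin_cases i <;> fin_cases j <;> simp [cm, Matrix.mul_apply, Fin.sum_univ_two] <;> ring

/-- The order of the companion matrix is prime to the characteristic. -/
theorem not_dvd_orderOf {p : ℕ} [Fact p.Prime] [CharP F p] {e : F} (he : GoodParam e)
    (hfin : IsOfFinOrder (cm 1 e)) : ¬ p ∣ orderOf (cm 1 e) := by
  haveI : CharP (Matrix (Fin 2) (Fin 2) F) p := inferInstance
  rintro ⟨k, hk⟩
  have hk0 : 0 < k := Nat.pos_of_ne_zero fun h0 => by
    rw [h0, mul_zero] at hk; exact hfin.orderOf_pos.ne' hk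
  have hy : (cm 1 e ^ k) ^ p = 1 := by rw [← pow_mul, mul_comm, ← hk]; exact pow_orderOf_eq_one _
  obtain ⟨a, b, hab⟩ := pow_mem_span e k
  have hnil : (cm 1 e ^ k - 1) ^ p = 0 := by
    rw [sub_pow_char_of_commute p (Commute.one_right _), hy, one_pow, sub_self]
  have hrew : cm 1 e ^ k - 1 = (a - 1) • (1 : Matrix (Fin 2) (Fin 2) F) + b • cm 1 e := by
    rw [hab, sub_smul, one_smul]; abel
  obtain ⟨ha, hb⟩ := pow_ne_zero_of he _ _ p (hrew ▸ hnil)
  have h1 : cm 1 e ^ k = 1 := by
    rw [ha, hb, zero_smul, zero_smul, add_zero, sub_eq_zero] at hrew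
    exact hrew
  have := Nat.le_of_dvd hk0 (orderOf_dvd_of_pow_eq_one h1)
  have hp2 := (Fact.out : p.Prime).two_le
  rw [hk] at this
  nlinarith

end CfsgLib.Classical.SpFourCover
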