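import Cfsg.Agent.Lib.Classical.SpFourCover.Frame
import Cfsg.Agent.Lib.Classical.SpFourCover.TwoByTwo

/-!
# Every non-scalar isometry of a four-dimensional alternating space has a good frame
-/

set_option autoImplicit false
set_option linter.unusedSectionVars false

open Module

namespace CfsgLib.Classical.SpFourCover

variable {F : Type*} [Field F] {V : Type*} [AddCommGroup V] [Module F V] [FiniteDimensional F V]
  {B : V →ₗ[F] V →ₗ[F] F} {g : V ≃ₗ[F] V}

theorem exists_noneigen (hns : ¬ ∃ r : F, ∀ x, g x = r • x) :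
    ∃ v, LinearIndependent F ![v, g v] := by
  by_contra h
  push Not at h
  have heig : ∀ v, ∃ r : F, g v = r • v := by
    intro v
    by_cases hv : v = 0
    · exact ⟨0, by simp [hv]⟩
    have h1 := h v
    rw [LinearIndependent.pair_iff' hv] at h1
    push Not at h1
    obtain ⟨r, hr⟩ := h1
    exact ⟨r, hr.symm⟩
  by_cases h0 : ∀ x : V, x = 0
  · exact hns ⟨0, fun x => by simp [h0 x]⟩
  push Not at h0
  obtain ⟨e, he⟩ := h0
  obtain ⟨c, hc⟩ := heig e
  refine hns ⟨c, fun v => ?_⟩
  by_cases hv : ∃ s : F, s • e = v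
  · obtain ⟨s, rfl⟩ := hv
    rw [map_smul, hc, smul_comm]
  have hli : LinearIndependent F ![e, v] := by
    rw [LinearIndependent.pair_iff' he]; push Not at hv; exact hv
  obtain ⟨d, hd⟩ := heig v
  obtain ⟨f, hf⟩ := heig (e + v)
  rw [map_add, hc, hd, smul_add] at hf
  have h2 : (c - f) • e + (d - f) • v = 0 := by
    rw [sub_smul, sub_smul, sub_add_sub_comm, hf, sub_self]
  obtain ⟨h3, h4⟩ := LinearIndependent.pair_iff.1 hli _ _ h2
  rw [hd, sub_eq_zero.1 h4, ← sub_eq_zero.1 h3]

variable (hg : ∀ x y, B (g x) (g y) = B x y)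
include hg

/-- `g = ± (1 + N)` with `N ^ 2 = 0`. -/
theorem hasFrame_unipotent (hA : B.IsAlt) (hB : B.Nondegenerate) (hdim : finrank F V = 4) {r : F}
    (hr : r = 1 ∨ r = -1) (hne : ∃ x, g x ≠ r • x)
    (hsq : ∀ x, g (g x) = (2 * r) • g x - x) : HasFrame B g := by
  have hrr : r * r = 1 := by rcases hr with rfl | rfl <;> ring
  set N : V → V := fun x => g x - r • x with hN
  have hsym : ∀ x y, B x (N y) = B y (N x) := by
    intro x y
    have h2 : B x (g y) = (2 * r) * B x y + B y (g x) := by
      have h1 : B (g x) (g (g y)) = B x (g y) := hg _ _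
      rw [hsq, map_sub, map_smul, hg, smul_eq_mul, alt_swap hA (g x) y] at h1
      linear_combination -h1
    simp only [hN, map_sub, map_smul, smul_eq_mul, h2]
    rw [alt_swap hA y x]
    ring
  have hNN : ∀ x, N (N x) = 0 := by
    intro x
    simp only [hN, map_sub, map_smul, hsq, smul_sub, smul_smul, hrr, one_smul]
    module
  have hRR : ∀ x y, B (N x) (N y) = 0 := fun x y => by
    rw [hsym, hNN, map_zero]
  obtain ⟨x₀, hx₀⟩ := hne
  set e₁ := N x₀ with he₁
  have he₁0 : e₁ ≠ 0 := sub_ne_zero.2 hx₀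
  obtain ⟨e₂, hli, h12, hN2⟩ : ∃ e₂, LinearIndependent F ![e₁, e₂] ∧ B e₁ e₂ = 0 ∧ N e₂ = 0 := by
    by_cases hR : ∀ x, ∃ s : F, s • e₁ = N x
    · obtain ⟨y, hy, hy'⟩ : ∃ y, B e₁ y = 0 ∧ ∀ s : F, s • e₁ ≠ y := by
        by_contra h
        push Not at h
        have hle : LinearMap.ker (B e₁) ≤ Submodule.span F {e₁} :=
          fun y hy => Submodule.mem_span_singleton.2 (h y hy)
        have h3 := Submodule.finrank_mono hle
        rw [finrank_span_singleton he₁0] at h3
        have h4 := (B e₁).finrank_range_add_finrank_ker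
        have h5 := Submodule.finrank_le (LinearMap.range (B e₁))
        rw [finrank_self] at h5
        omega
      refine ⟨y, (LinearIndependent.pair_iff' he₁0).2 hy', hy, hB.2 _ fun x => ?_⟩
      obtain ⟨s, hs⟩ := hR x
      rw [hsym, ← hs, map_smul, alt_swap hA y e₁, hy, neg_zero, smul_zero]
    · push Not at hR
      obtain ⟨x, hx⟩ := hR
      exact ⟨N x, (LinearIndependent.pair_iff' he₁0).2 hx, hRR _ _, hNN _⟩
  obtain ⟨φ, h1, h2⟩ := exists_frame hA hB hli h12
  refine Or.inl ⟨φ, r, hr, ?_, ?_⟩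
  · rw [h1]; exact sub_eq_zero.1 (hNN x₀)
  · rw [h2]; exact sub_eq_zero.1 hN2

/-- An involution with `B x (g x) = 0` for all `x`, in odd characteristic. -/
theorem hasFrame_involution (hA : B.IsAlt) (hB : B.Nondegenerate) (h2 : (2 : F) ≠ 0)
    (hns : ¬ ∃ r : F, ∀ x, g x = r • x) (hQ : ∀ x, B x (g x) = 0) (hsq : ∀ x, g (g x) = x) :
    HasFrame B g := by
  obtain ⟨v, hli⟩ := exists_noneigen hns
  obtain ⟨φ, h1, h2'⟩ := exists_frame hA hB hli (hQ v)
  have hm1v : B φ.m1 v = 1 := by rw [← h1]; exact φ.h11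
  have hm1g : B φ.m1 (g v) = 0 := by rw [← h2']; exact φ.h12
  have hm2v : B φ.m2 v = 0 := by rw [← h1]; exact φ.h21
  have hm2g : B φ.m2 (g v) = 1 := by rw [← h2']; exact φ.h22
  have hvm2 : B v φ.m2 = 0 := by rw [alt_swap hA, hm2v, neg_zero]
  have hgv2 : B v (g φ.m2) = -1 := by
    rw [← hg, hsq, alt_swap hA, hm2g]
  set y := B φ.m1 (g φ.m2) - 1 with hy
  let ψ : Frame B :=
    { l1 := v, l2 := g v + (-2 : F) • φ.m2, m1 := φ.m1 + y • v, m2 := φ.m2
      ll := by simp [hQ v, hvm2]
      mm := by simp [φ.mm, hvm2]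
      h11 := by simp [hm1v, hA v]
      h22 := by simp [hm2g, hA φ.m2]
      h12 := by simp [hm1g, φ.mm, hQ v, hvm2]
      h21 := hm2v }
  have hblock : ψ.block g = !![0, -1; 1, 0] := by
    ext i j
    fin_cases i <;> fin_cases j <;>
      simp [Frame.block, ψ, hm1g, hm2g, hQ v, hsq, hm1v, hm2v, hA v, hgv2, hQ φ.m2]
    rw [hy]; ring
  refine Or.inr ⟨ψ, by rw [hblock, Matrix.det_fin_two_of]; simp, by rw [hblock]; simpa using h2.symm, ?_⟩
  rintro ⟨r, hr⟩
  rw [hblock] at hr
  simpa using congrFun (congrFun hr 1) 0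

/-- A quadratic isometry with trace parameter different from `± 2`. -/
theorem hasFrame_quadratic [Finite F] (hA : B.IsAlt) (hB : B.Nondegenerate)
    (hdim : finrank F V = 4) (hns : ¬ ∃ r : F, ∀ x, g x = r • x) {τ : F}
    (hτ : τ * τ ≠ 4) (hsq : ∀ x, g (g x) = τ • g x - x) : HasFrame B g := by
  obtain ⟨v, hli, hQv⟩ : ∃ v, LinearIndependent F ![v, g v] ∧ B v (g v) = 0 := by
    obtain ⟨v₀, hli₀⟩ := exists_noneigen hns
    by_cases hQ0 : B v₀ (g v₀) = 0
    · exact ⟨v₀, hli₀, hQ0⟩
    set Q₀ := B v₀ (g v₀) with hQ₀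
    obtain ⟨y, hy, hy0⟩ : ∃ y, y ∈ LinearMap.ker ((B v₀).prod (B (g v₀))) ∧ y ≠ 0 := by
      refine Submodule.exists_mem_ne_zero_of_ne_bot ?_
      refine LinearMap.ker_ne_bot_of_finrank_lt ?_
      rw [finrank_prod, finrank_self, hdim]; norm_num
    rw [LinearMap.mem_ker, LinearMap.prod_apply, Function.prod, Prod.mk_eq_zero] at hy
    obtain ⟨hy1, hy2⟩ := hy
    have hgv0 : B (g v₀) v₀ = -Q₀ := alt_swap hA _ _
    have hv0gy : B v₀ (g y) = 0 := by
      rw [← hg, hsq, map_sub, map_smul, hg, hy1, hy2]; simp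
    have hgv0gy : B (g v₀) (g y) = 0 := by rw [hg, hy1]
    by_cases hyl : LinearIndependent F ![y, g y]
    · by_cases hQy : B y (g y) = 0
      · exact ⟨y, hyl, hQy⟩
      obtain ⟨a, b, hab⟩ := rep τ 1 (-Q₀ / B y (g y)) (by rwa [mul_one])
      refine ⟨v₀ + a • y + b • g y, ?_, ?_⟩
      · rw [LinearIndependent.pair_iff]
        intro s t hst
        have e1 := congrArg (B v₀) hst
        have e2 := congrArg (B (g v₀)) hst
        simp [hsq, hy1, hy2, hA v₀, hA (g v₀), hv0gy, hgv0gy, hgv0, hQ0, ← hQ₀] at e1 e2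
        exact ⟨e2, e1⟩
      · have hyv : B y v₀ = 0 := by rw [alt_swap hA, hy1, neg_zero]
        have hygv : B y (g v₀) = 0 := by rw [alt_swap hA, hy2, neg_zero]
        have hgyv : B (g y) v₀ = 0 := by rw [alt_swap hA, hv0gy, neg_zero]
        have hgygv : B (g y) (g v₀) = 0 := by rw [alt_swap hA, hgv0gy, neg_zero]
        simp [hsq, hy1, hy2, hv0gy, hgv0gy, hA v₀, hA y, hA (g y), hyv, hygv, hgyv, hgygv, ← hQ₀,
          alt_swap hA (g y) y]
        field_simp at hab
        linear_combination hab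
    · rw [LinearIndependent.pair_iff' hy0] at hyl
      push Not at hyl
      obtain ⟨l, hl⟩ := hyl
      have hl1 : l * l = τ * l - 1 := by
        have h := hsq y
        rw [← hl, map_smul, ← hl, smul_smul, smul_smul] at h
        have h' : (l * l) • y = (τ * l - 1) • y := by rw [h, sub_smul, one_smul]
        exact smul_left_injective F hy0 h'
      have hl0 : l ≠ 0 := fun h0 => by rw [h0] at hl1; simp at hl1
      have hl2 : l * l ≠ 1 := by
        intro h1
        refine hτ ?_
        linear_combination (τ * l + 2) * (-1 : F) * hl1 + (τ * l + 2) * h1 - τ * τ * h1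
      have he0 : g (g v₀ - l • v₀) = l⁻¹ • (g v₀ - l • v₀) := by
        rw [map_sub, map_smul, hsq, smul_sub, smul_smul, inv_mul_cancel₀ hl0, one_smul,
          show τ = l⁻¹ + l by field_simp; linear_combination -hl1, add_smul]
        abel
      set e₀ := g v₀ - l • v₀ with he₀
      have h1 : B v₀ e₀ = Q₀ := by simp [he₀, hA v₀, ← hQ₀]
      have h2 : B e₀ y = 0 := by simp [he₀, hy1, hy2]
      refine ⟨e₀ + y, ?_, ?_⟩
      · rw [LinearIndependent.pair_iff]
        intro s t hst
        rw [map_add, he0, ← hl] at hst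
        have e1 : s + t * l⁻¹ = 0 := by
          have := congrArg (B v₀) hst
          simp [h1, hy1] at this
          have h' : (s + t * l⁻¹) * Q₀ = 0 := by linear_combination this
          exact (mul_eq_zero.1 h').resolve_right hQ0
        have e2 : s + t * l = 0 := by
          have h' : (s + t * l) • y + (s + t * l⁻¹) • e₀ = 0 := by rw [← hst]; module
          rw [e1, zero_smul, add_zero] at h'
          exact (smul_eq_zero.1 h').resolve_right hy0
        have ht : t * (l * l - 1) = 0 := by
          have : t * l⁻¹ = t * l := by linear_combination e1 - e2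
          field_simp at this
          linear_combination -this
        have ht0 := (mul_eq_zero.1 ht).resolve_right (sub_ne_zero.2 hl2)
        exact ⟨by rw [ht0] at e2; simpa using e2, ht0⟩
      · rw [g.map_add, he0, ← hl]
        simp [hA e₀, hA y, h2, alt_swap hA y e₀]
  obtain ⟨φ, h1, h2⟩ := exists_frame hA hB hli hQv
  have hblock : φ.block g = !![0, -1; 1, τ] := by
    have a1 : B φ.m1 v = 1 := by rw [← h1]; exact φ.h11
    have a2 : B φ.m1 (g v) = 0 := by rw [← h2]; exact φ.h12
    have a3 : B φ.m2 v = 0 := by rw [← h1]; exact φ.h21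
    have a4 : B φ.m2 (g v) = 1 := by rw [← h2]; exact φ.h22
    ext i j
    fin_cases i <;> fin_cases j <;> simp [Frame.block, h1, h2, hsq, a1, a2, a3, a4]
  refine Or.inr ⟨φ, by rw [hblock, Matrix.det_fin_two_of]; simp, ?_, ?_⟩
  · rw [hblock]
    simp only [Matrix.of_apply, Matrix.cons_val', Matrix.cons_val_zero, Matrix.cons_val_one,
      Matrix.empty_val', Matrix.cons_val_fin_one, zero_add]
    intro h; exact hτ (by rw [h]; norm_num)
  · rintro ⟨r, hr⟩
    rw [hblock] at hr
    simpa using congrFun (congrFun hr 1) 0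

/-- Every non-scalar isometry has a good frame. -/
theorem hasFrame [Finite F] (hA : B.IsAlt) (hB : B.Nondegenerate) (hdim : finrank F V = 4)
    {t : F} (ht0 : t ≠ 0) (ht1 : t ≠ 1) (hns : ¬ ∃ r : F, ∀ x, g x = r • x) : HasFrame B g := by
  have h12 : (1 : F) ≠ 2 := fun h => one_ne_zero (by linear_combination -h : (1 : F) = 0)
  by_cases hP : ∃ v, B v (g v) ≠ 0 ∧ g (g v) ∉ Submodule.span F {v, g v}
  · obtain ⟨v, hQ, hU⟩ := hP
    refine hasFrame_nonInvariant hg hA hB hdim h12 ht0 (fun h => ?_) hQ hU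
    field_simp at h
    have : (t - 1) * (t - 1) = 0 := by linear_combination h
    exact ht1 (sub_eq_zero.1 (mul_self_eq_zero.1 this))
  push Not at hP
  by_cases hQ : ∀ x, B x (g x) = 0
  · have hsq : ∀ x, g (g x) = x := by
      intro x
      rw [← sub_eq_zero]
      refine hB.1 _ fun z => ?_
      obtain ⟨y, rfl⟩ := g.surjective z
      have h := hQ (x + y)
      simp [hQ x, hQ y] at h
      simp [hg, alt_swap hA (g x) y]
      linear_combination -h
    by_cases h2 : (2 : F) = 0
    · refine hasFrame_unipotent hg hA hB hdim (r := 1) (Or.inl rfl) ?_ fun x => ?_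
      · by_contra h; push Not at h; exact hns ⟨1, h⟩
      · rw [hsq, mul_one, h2, zero_smul, zero_sub]
        rw [eq_neg_iff_add_eq_zero, ← two_smul F x, h2, zero_smul]
    · exact hasFrame_involution hg hA hB h2 hns hQ hsq
  push Not at hQ
  obtain ⟨v₀, hv₀⟩ := hQ
  -- the parameter of each anisotropic vector
  have hτ : ∀ v, B v (g v) ≠ 0 → ∃ τ : F, g (g v) = τ • g v - v := by
    intro v hv
    obtain ⟨a, b, hab⟩ := Submodule.mem_span_pair.1 (hP v hv)
    have h1 : B (g v) (g (g v)) = B v (g v) := hg _ _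
    rw [← hab] at h1
    simp [hA (g v), alt_swap hA (g v) v] at h1
    have ha : a = -1 := by
      have : (a + 1) * B v (g v) = 0 := by linear_combination -h1
      linear_combination (mul_eq_zero.1 this).resolve_right hv
    exact ⟨b, by rw [← hab, ha]; module⟩
  obtain ⟨τ, hτ₀⟩ := hτ v₀ hv₀
  have hconst : ∀ y, B y (g y) ≠ 0 → g (g y) = τ • g y - y := by
    intro y hy
    obtain ⟨τ', hτ'⟩ := hτ y hy
    by_cases hne : τ' = τ
    · rw [← hne]; exact hτ'
    exfalso
    -- vectors with different parameters are orthogonal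
    have orth : ∀ a b : F, ∀ w, g (g w) = τ • g w - w →
        B w (a • y + b • g y) = 0 := by
      intro a b w hw
      have key : ∀ z, g (g z) = τ' • g z - z → B w z = 0 := by
        intro z hz
        have e1 : B (g (g w)) (g z) = B (g w) z := hg _ _
        have e2 : B (g w) (g (g z)) = B w (g z) := hg _ _
        rw [hw] at e1
        rw [hz] at e2
        simp [hg] at e1 e2
        have : (τ - τ') * B w z = 0 := by linear_combination e1 - e2
        exact (mul_eq_zero.1 this).resolve_left (sub_ne_zero.2 (Ne.symm hne))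
      refine key _ ?_
      simp [hτ', smul_sub]
      module
    have hgv₀ : g (g (g v₀)) = τ • g (g v₀) - g v₀ := by
      rw [← map_smul, ← map_sub, ← hτ₀]
    -- the sum with a multiple of `y`
    obtain ⟨a, b, hab, hQab⟩ : ∃ a b : F, (a ≠ 0 ∨ b ≠ 0) ∧
        B y (g y) * (a * a + τ' * a * b + b * b) ≠ -B v₀ (g v₀) := by
      by_contra h
      push Not at h
      have e1 := h 1 0 (Or.inl one_ne_zero)
      have e2 := h 1 1 (Or.inl one_ne_zero)
      have e3 := h 1 (-1) (Or.inl one_ne_zero)
      have e4 := h t 0 (Or.inl ht0)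
      have k2 : (2 + τ') = 1 := mul_left_cancel₀ hy (by linear_combination e2 - e1)
      have k3 : (2 - τ') = 1 := mul_left_cancel₀ hy (by linear_combination e3 - e1)
      have k4 : t * t = 1 := mul_left_cancel₀ hy (by linear_combination e4 - e1)
      have h2 : (2 : F) = 0 := by linear_combination k2 + k3
      refine ht1 (sub_eq_zero.1 (mul_self_eq_zero.1 ?_))
      linear_combination k4 + (1 - t) * h2
    set w := a • y + b • g y with hw
    have hw' : g (g w) = τ' • g w - w := by
      simp [hw, hτ', smul_sub]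
      module
    have hgw : g w = (-b) • y + (a + b * τ') • g y := by
      simp [hw, hτ', smul_sub, smul_smul]
      module
    have c1 : B v₀ (g w) = 0 := by rw [hgw]; exact orth _ _ _ hτ₀
    have c2 : B w (g v₀) = 0 := by
      rw [alt_swap hA, orth _ _ _ hgv₀, neg_zero]
    have hQw : B w (g w) = B y (g y) * (a * a + τ' * a * b + b * b) := by
      rw [hgw, hw]
      simp [hA y, hA (g y), alt_swap hA (g y) y]
      ring
    have hsum : B (v₀ + w) (g (v₀ + w)) = B v₀ (g v₀) + B w (g w) := by
      simp [c1, c2]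
    obtain ⟨σ, hσ⟩ := hτ (v₀ + w) (by
      rw [hsum, hQw]
      intro h0
      exact hQab (by linear_combination h0))
    rw [map_add, map_add, hτ₀, hw'] at hσ
    have h0 : (τ - σ) • g v₀ + (τ' - σ) • g w = 0 := by
      rw [← sub_eq_zero] at hσ
      rw [← hσ]; module
    have f1 : τ - σ = 0 := by
      have := congrArg (B v₀) h0
      simp [c1] at this
      exact this.resolve_right hv₀
    rw [f1, zero_smul, zero_add] at h0
    have f2 : τ' - σ = 0 := by
      refine (smul_eq_zero.1 h0).resolve_right fun h => ?_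
      have hw0 : w = 0 := by
        simpa using congrArg g.symm h
      have e1 := congrArg (B y) hw0
      have e2 := congrArg (B (g y)) hw0
      simp [hw, hA y, hA (g y), alt_swap hA (g y) y, hy] at e1 e2
      rcases hab with hab | hab
      · exact hab e2
      · exact hab e1
    exact hne (by linear_combination f2 - f1)
  have hall : ∀ x, g (g x) = τ • g x - x := by
    intro x
    by_cases hx : B x (g x) = 0
    · -- move `x` along `v₀`
      obtain ⟨s, hs⟩ : ∃ s : F, B (x + s • v₀) (g (x + s • v₀)) ≠ 0 := by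
        by_contra h
        push Not at h
        have e1 := h 1
        have e2 := h t
        simp [hx] at e1 e2
        have : t * (t - 1) * B v₀ (g v₀) = 0 := by linear_combination e2 - t * e1
        exact mul_ne_zero (mul_ne_zero ht0 (sub_ne_zero.2 ht1)) hv₀ this
      have h := hconst _ hs
      simp [hτ₀, smul_sub] at h
      rw [← sub_eq_zero] at h ⊢
      rw [← h]; module
    · exact hconst x hx
  by_cases h4 : τ * τ = 4
  · have : (τ - 2) * (τ + 2) = 0 := by linear_combination h4
    obtain ⟨r, hr, hτr⟩ : ∃ r : F, (r = 1 ∨ r = -1) ∧ τ = 2 * r := by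
      rcases mul_eq_zero.1 this with h | h
      · exact ⟨1, Or.inl rfl, by linear_combination h⟩
      · exact ⟨-1, Or.inr rfl, by linear_combination h⟩
    refine hasFrame_unipotent hg hA hB hdim hr ?_ (hτr ▸ hall)
    by_contra h; push Not at h; exact hns ⟨r, h⟩
  · exact hasFrame_quadratic hg hA hB hdim hns h4 hall

end CfsgLib.Classical.SpFourCover
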