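import Cfsg.Agent.Lib.Classical.SympBasic

/-!
# Symplectic frames of a four-dimensional space adapted to an isometry

For a non-scalar isometry `g` of a four-dimensional alternating space there is a frame in which
either the first Lagrangian is fixed by `g` up to a sign, or the upper left block of `g` has
determinant one, trace different from two and is not scalar.
-/

set_option autoImplicit false
set_option linter.unusedSectionVars false

open Module

namespace CfsgLib.Classical.SpFourCover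

variable {F : Type*} [Field F] {V : Type*} [AddCommGroup V] [Module F V] [FiniteDimensional F V]
  {B : V →ₗ[F] V →ₗ[F] F}

/-- A symplectic frame `l₁, l₂, m₁, m₂` with `B mᵢ lⱼ = δᵢⱼ`. -/
structure Frame (B : V →ₗ[F] V →ₗ[F] F) where
  l1 : V
  l2 : V
  m1 : V
  m2 : V
  ll : B l1 l2 = 0
  mm : B m1 m2 = 0
  h11 : B m1 l1 = 1
  h22 : B m2 l2 = 1
  h12 : B m1 l2 = 0
  h21 : B m2 l1 = 0

/-- The upper left block of `g` in a frame. -/
def Frame.block (φ : Frame B) (g : V → V) : Matrix (Fin 2) (Fin 2) F :=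
  !![B φ.m1 (g φ.l1), B φ.m1 (g φ.l2); B φ.m2 (g φ.l1), B φ.m2 (g φ.l2)]

/-- The frame conclusion for `g`. -/
def HasFrame (B : V →ₗ[F] V →ₗ[F] F) (g : V → V) : Prop :=
  (∃ (φ : Frame B) (r : F), (r = 1 ∨ r = -1) ∧ g φ.l1 = r • φ.l1 ∧ g φ.l2 = r • φ.l2) ∨
    ∃ φ : Frame B, (φ.block g).det = 1 ∧ (φ.block g) 0 0 + (φ.block g) 1 1 ≠ 2 ∧
      ¬ ∃ r : F, φ.block g = r • 1

theorem Frame.linearIndependent (hA : B.IsAlt) (φ : Frame B) :
    LinearIndependent F ![φ.l1, φ.l2, φ.m1, φ.m2] := by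
  rw [Fintype.linearIndependent_iff]
  intro c hc
  simp only [Fin.sum_univ_four, Matrix.cons_val] at hc
  have hll := φ.ll; have hmm := φ.mm; have h11 := φ.h11; have h22 := φ.h22
  have h12 := φ.h12; have h21 := φ.h21
  have hll' : B φ.l2 φ.l1 = 0 := by rw [alt_swap hA, hll, neg_zero]
  have hmm' : B φ.m2 φ.m1 = 0 := by rw [alt_swap hA, hmm, neg_zero]
  have h11' : B φ.l1 φ.m1 = -1 := by rw [alt_swap hA, h11]
  have h22' : B φ.l2 φ.m2 = -1 := by rw [alt_swap hA, h22]
  have h12' : B φ.l2 φ.m1 = 0 := by rw [alt_swap hA, h12, neg_zero]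
  have h21' : B φ.l1 φ.m2 = 0 := by rw [alt_swap hA, h21, neg_zero]
  have e1 := congrArg (B φ.m1) hc
  have e2 := congrArg (B φ.m2) hc
  have e3 := congrArg (B φ.l1) hc
  have e4 := congrArg (B φ.l2) hc
  simp [map_add, map_smul, hA φ.l1, hA φ.l2, hA φ.m1, hA φ.m2, hll, hll', hmm, hmm', h11, h11',
    h22, h22', h12, h12', h21, h21'] at e1 e2 e3 e4
  intro i
  fin_cases i <;> assumption

theorem Frame.span_eq (hA : B.IsAlt) (hdim : finrank F V = 4) (φ : Frame B) :
    Submodule.span F (Set.range ![φ.l1, φ.l2, φ.m1, φ.m2]) = ⊤ :=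
  (φ.linearIndependent hA).span_eq_top_of_card_eq_finrank (by simp [hdim])

/-- The coordinates in a frame. -/
theorem Frame.expand (hA : B.IsAlt) (hdim : finrank F V = 4) (φ : Frame B) (x : V) :
    x = B φ.m1 x • φ.l1 + B φ.m2 x • φ.l2 + B x φ.l1 • φ.m1 + B x φ.l2 • φ.m2 := by
  obtain ⟨c, hc⟩ := (Submodule.mem_span_range_iff_exists_fun F).1
    (show x ∈ Submodule.span F (Set.range ![φ.l1, φ.l2, φ.m1, φ.m2]) by
      rw [φ.span_eq hA hdim]; trivial)
  simp only [Fin.sum_univ_four, Matrix.cons_val] at hc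
  have h11' : B φ.l1 φ.m1 = -1 := by rw [alt_swap hA, φ.h11]
  have h22' : B φ.l2 φ.m2 = -1 := by rw [alt_swap hA, φ.h22]
  have h12' : B φ.l2 φ.m1 = 0 := by rw [alt_swap hA, φ.h12, neg_zero]
  have h21' : B φ.l1 φ.m2 = 0 := by rw [alt_swap hA, φ.h21, neg_zero]
  have hll' : B φ.l2 φ.l1 = 0 := by rw [alt_swap hA, φ.ll, neg_zero]
  have hmm' : B φ.m2 φ.m1 = 0 := by rw [alt_swap hA, φ.mm, neg_zero]
  conv_lhs => rw [← hc]
  rw [← hc]
  simp [map_add, map_smul, hA φ.l1, hA φ.l2, hA φ.m1, hA φ.m2, φ.ll, hll', φ.mm, hmm', φ.h11, h11',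
    φ.h22, h22', φ.h12, h12', φ.h21, h21']

/-- Two independent orthogonal vectors extend to a frame. -/
theorem exists_frame (hA : B.IsAlt) (hB : B.Nondegenerate) {e₁ e₂ : V}
    (hli : LinearIndependent F ![e₁, e₂]) (h : B e₁ e₂ = 0) :
    ∃ φ : Frame B, φ.l1 = e₁ ∧ φ.l2 = e₂ := by
  let Φ : V →ₗ[F] F × F := (B.flip e₁).prod (B.flip e₂)
  have hsurj : Function.Surjective Φ := by
    rw [← LinearMap.range_eq_top, ← Submodule.dualAnnihilator_eq_bot_iff, eq_bot_iff]
    intro f hf
    rw [Submodule.mem_dualAnnihilator] at hf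
    rw [Submodule.mem_bot]
    have hfe : ∀ a b : F, f (a, b) = a * f (1, 0) + b * f (0, 1) := by
      intro a b
      rw [show ((a, b) : F × F) = a • (1, 0) + b • (0, 1) by simp, map_add, map_smul, map_smul,
        smul_eq_mul, smul_eq_mul]
    have hv : f (1, 0) • e₁ + f (0, 1) • e₂ = 0 := hB.2 _ fun y => by
      have := hf (Φ y) (LinearMap.mem_range_self _ _)
      rw [show Φ y = (B y e₁, B y e₂) from rfl, hfe] at this
      simp only [map_add, map_smul, smul_eq_mul]
      linear_combination this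
    obtain ⟨h1, h2⟩ := LinearIndependent.pair_iff.1 hli _ _ hv
    refine LinearMap.ext fun ⟨a, b⟩ => ?_
    rw [hfe, h1, h2]; simp
  obtain ⟨m₁, hm₁⟩ := hsurj (1, 0)
  obtain ⟨m₂, hm₂⟩ := hsurj (0, 1)
  simp only [Φ, LinearMap.prod_apply, Function.prod, LinearMap.flip_apply, Prod.mk.injEq] at hm₁ hm₂
  refine ⟨⟨e₁, e₂, m₁, m₂ - B m₁ m₂ • e₁, h, ?_, hm₁.1, ?_, hm₁.2, ?_⟩, rfl, rfl⟩
  · simp [hm₁.1]
  · simp [hm₂.2, h]
  · simp [hm₂.1, hA e₁]

variable {g : V ≃ₗ[F] V} (hg : ∀ x y, B (g x) (g y) = B x y)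

theorem indep_of_ne (hA : B.IsAlt) {v : V} (hQ : B v (g v) ≠ 0) :
    LinearIndependent F ![v, g v] := by
  rw [LinearIndependent.pair_iff]
  intro a b hab
  have e1 := congrArg (B v) hab
  have e2 := congrArg (B (g v)) hab
  simp [hA v, hA (g v), hQ] at e1
  simp [hA v, hA (g v), alt_swap hA (g v) v, hQ] at e2
  exact ⟨e2, e1⟩

include hg

/-- An isotropic vector `v` with `B v (g (g v)) ≠ 0`. -/
theorem hasFrame_isotropic (hA : B.IsAlt) (hB : B.Nondegenerate) (h2 : (1 : F) ≠ 2) {v : V}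
    (hQ : B v (g v) = 0) (hQ2 : B v (g (g v)) ≠ 0) : HasFrame B g := by
  have hli : LinearIndependent F ![v, g v] := by
    rw [LinearIndependent.pair_iff]
    intro a b hab
    by_cases hb : b = 0
    · refine ⟨?_, hb⟩
      rw [hb, zero_smul, add_zero] at hab
      exact (smul_eq_zero.1 hab).resolve_right fun hv => hQ2 (by simp [hv])
    · exfalso
      have hgv : g v = (-(a / b)) • v := by
        have := congrArg (fun x => b⁻¹ • x) hab
        simp only [smul_add, smul_smul, inv_mul_cancel₀ hb, one_smul, smul_zero] at this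
        rw [eq_neg_of_add_eq_zero_right this, ← neg_smul]
        congr 1; ring
      exact hQ2 (by rw [hgv, map_smul, hgv]; simp [hA v])
  obtain ⟨φ, h1, h2'⟩ := exists_frame hA hB hli hQ
  have hgg : B (g v) (g (g v)) = 0 := by rw [hg]; exact hQ
  have hlv : B v φ.m2 = 0 := by rw [← h1, alt_swap hA, φ.h21, neg_zero]
  have hlm : B (g v) φ.m2 = -1 := by rw [← h2', alt_swap hA, φ.h22]
  have hm1v : B φ.m1 v = 1 := by rw [← h1]; exact φ.h11
  have hm1g : B φ.m1 (g v) = 0 := by rw [← h2']; exact φ.h12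
  have hm2v : B φ.m2 v = 0 := by rw [← h1]; exact φ.h21
  have hm2g : B φ.m2 (g v) = 1 := by rw [← h2']; exact φ.h22
  set Q2 := B v (g (g v)) with hQ2d
  set s := (-1 - B φ.m1 (g (g v))) / Q2 with hs
  set c := (1 - B φ.m2 (g (g v))) / Q2 with hc
  let ψ : Frame B :=
    { l1 := v, l2 := g v, m1 := φ.m1 + s • v + c • g v, m2 := φ.m2 + c • v
      ll := hQ
      mm := by
        have hgvv : B (g v) v = 0 := by rw [alt_swap hA, hQ, neg_zero]
        simp [φ.mm, hlv, hlm, hm1v, hA v, hgvv]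
      h11 := by simp [hm1v, hA v, alt_swap hA (g v) v, hQ]
      h22 := by simp [hm2g, hQ]
      h12 := by simp [hm1g, hQ, hA (g v)]
      h21 := by simp [hm2v, hA v] }
  have hblock : ψ.block g = !![0, -1; 1, 1] := by
    ext i j
    fin_cases i <;> fin_cases j <;>
      simp [Frame.block, ψ, hm1g, hm2g, hQ, hA (g v), hgg, ← hQ2d]
    · rw [hs]; field_simp; ring
    · rw [hc]; field_simp; ring
  refine Or.inr ⟨ψ, ?_, ?_, ?_⟩
  · rw [hblock, Matrix.det_fin_two_of]; simp
  · rw [hblock]; simpa using h2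
  · rintro ⟨r, hr⟩
    rw [hblock] at hr
    simpa using congrFun (congrFun hr 1) 0

/-- A vector `v` with `B v (g v) ≠ 0` and `⟨v, g v⟩` not invariant. -/
theorem hasFrame_nonInvariant (hA : B.IsAlt) (hB : B.Nondegenerate) (hdim : finrank F V = 4)
    (h2 : (1 : F) ≠ 2) {t : F} (ht0 : t ≠ 0) (ht : t + t⁻¹ ≠ 2) {v : V} (hQ : B v (g v) ≠ 0)
    (hU : g (g v) ∉ Submodule.span F {v, g v}) : HasFrame B g := by
  set Q := B v (g v) with hQd
  have hgvv : B (g v) v = -Q := by rw [alt_swap hA]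
  let π : V → V := fun y => y + (B (g v) y / Q) • v + (-(B v y / Q)) • g v
  have hπ1 : ∀ y, B v (π y) = 0 := fun y => by
    simp [π, hA v, ← hQd]; field_simp; ring
  have hπ2 : ∀ y, B (g v) (π y) = 0 := fun y => by
    simp [π, hA (g v), hgvv]; field_simp; ring
  -- a vector of the orthogonal complement not killed by `B (g⁻¹ v)`
  have hz : g.symm v ∉ Submodule.span F {v, g v} := by
    intro hz
    obtain ⟨p, r, hpr⟩ := Submodule.mem_span_pair.1 hz
    have h := congrArg g hpr
    rw [map_add, map_smul, map_smul, LinearEquiv.apply_symm_apply] at h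
    by_cases hr : r = 0
    · rw [hr, zero_smul, add_zero] at h
      have := congrArg (B v) h
      simp [hA v, ← hQd] at this
      rw [this.resolve_right hQ, zero_smul] at h
      exact hQ (by rw [hQd, ← h]; simp)
    · refine hU (Submodule.mem_span_pair.2 ⟨r⁻¹, -(r⁻¹ * p), ?_⟩)
      have h2 := congrArg (fun x => r⁻¹ • x) h
      simp only [smul_add, smul_smul, inv_mul_cancel₀ hr, one_smul] at h2
      rw [← h2]; module
  obtain ⟨y, hy⟩ : ∃ y, B (π (g.symm v)) y ≠ 0 := by
    by_contra h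
    push Not at h
    refine hz ?_
    have h0 := hB.1 _ h
    simp only [π] at h0
    refine Submodule.mem_span_pair.2 ⟨-(B (g v) (g.symm v) / Q), B v (g.symm v) / Q, ?_⟩
    rw [← sub_eq_zero, ← neg_eq_zero, ← h0]; module
  set l := π y with hl
  have hvl : B v l = 0 := hπ1 y
  have hgl : B (g v) l = 0 := hπ2 y
  have hρ : B v (g l) ≠ 0 := by
    have h1 : B v (g l) = B (g.symm v) l := by
      conv_rhs => rw [← hg, LinearEquiv.apply_symm_apply]
    have h2 : B (π (g.symm v)) y = B (π (g.symm v)) l := by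
      have a1 : B (π (g.symm v)) v = 0 := by rw [alt_swap hA, hπ1, neg_zero]
      have a2 : B (π (g.symm v)) (g v) = 0 := by rw [alt_swap hA, hπ2, neg_zero]
      generalize π (g.symm v) = z at a1 a2 ⊢
      simp [hl, π, a1, a2]
    have h3 : B (π (g.symm v)) l = B (g.symm v) l := by
      simp [π, hvl, hgl]
    rw [h1, ← h3, ← h2]; exact hy
  have hglgv : B (g v) (g l) = 0 := by rw [hg]; exact hvl
  obtain ⟨y', hy'⟩ : ∃ y', B y' l = 1 := by
    have hl0 : l ≠ 0 := fun h0 => hρ (by simp [h0])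
    obtain ⟨z, hz'⟩ : ∃ z, B z l ≠ 0 := by
      by_contra h; push Not at h; exact hl0 (hB.2 _ h)
    exact ⟨(B z l)⁻¹ • z, by simp [hz']⟩
  set m := π y' with hm
  have hvm : B v m = 0 := hπ1 y'
  have hgm : B (g v) m = 0 := hπ2 y'
  have hml : B m l = 1 := by simp [hm, π, hy', hvl, hgl]
  by_cases hQl : B l (g l) = 0
  · refine hasFrame_isotropic hg hA hB h2 hQl ?_
    -- the frame with `a = 0`
    let φ : Frame B :=
      { l1 := v, l2 := l, m1 := (-Q⁻¹) • g v, m2 := m
        ll := hvl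
        mm := by simp [hgm]
        h11 := by simp [hgvv, hQ]
        h22 := hml
        h12 := by simp [hgl]
        h21 := by rw [alt_swap hA, hvm, neg_zero] }
    set b := B m (g l) with hb
    have hexp := φ.expand hA hdim (g l)
    have hglv : B (g l) v = -(B v (g l)) := alt_swap hA _ _
    have hgll : B (g l) l = 0 := by rw [alt_swap hA, hQl, neg_zero]
    simp only [φ, map_smul, LinearMap.smul_apply, smul_eq_mul, hglgv, mul_zero, zero_smul,
      zero_add, hgll, add_zero, ← hb, hglv, smul_smul] at hexp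
    -- `g l = b l + (B v (g l) / Q) g v`
    have key : B (g l) (g (g v)) = 0 := by
      rw [hg, alt_swap hA, hgl, neg_zero]
    have hgg : B (g v) (g (g v)) = Q := by rw [hg]
    rw [hexp] at key
    simp [hgg] at key
    have hb0 : b ≠ 0 := by
      intro hb0
      rw [hb0] at key
      simp [hQ] at key
      exact hρ key
    -- compute `B l (g (g l))`
    have h4 : B l (g (g l)) = b * B l (g l) + (B v (g l) / Q) * B l (g (g v)) := by
      conv_lhs => rw [hexp]
      simp only [map_add, map_smul, smul_eq_mul]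
      ring
    rw [h4, hQl, mul_zero, zero_add]
    refine mul_ne_zero (div_ne_zero hρ hQ) fun h0 => ?_
    rw [h0] at key
    simp [hQ] at key
    exact hρ key
  · -- adjust the diagonal entry to `t`
    set m' := m + ((t - B m (g l)) / B l (g l)) • l with hm'
    have hm'v : B m' v = 0 := by
      simp [hm', alt_swap hA m v, hvm, alt_swap hA l v, hvl]
    let ψ : Frame B :=
      { l1 := v, l2 := l, m1 := (t⁻¹ / Q) • v + (-Q⁻¹) • g v, m2 := m'
        ll := hvl
        mm := by simp [hm', hvm, hgm, hvl, hgl]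
        h11 := by simp [hA v, hgvv, hQ]
        h22 := by simp [hm', hml, hA l]
        h12 := by simp [hvl, hgl]
        h21 := hm'v }
    have hm'g : B m' (g v) = 0 := by
      simp [hm', alt_swap hA m (g v), hgm, alt_swap hA l (g v), hgl]
    have hblock : ψ.block g = !![t⁻¹, t⁻¹ / Q * B v (g l); 0, t] := by
      ext i j
      fin_cases i <;> fin_cases j <;>
        simp [Frame.block, ψ, hglgv, hm'g, hA (g v), ← hQd, hQ]
      rw [hm']
      simp
      field_simp
      ring
    refine Or.inr ⟨ψ, ?_, ?_, ?_⟩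
    · rw [hblock, Matrix.det_fin_two_of]; simp [ht0]
    · rw [hblock]; simpa [add_comm] using ht
    · rintro ⟨r, hr⟩
      rw [hblock] at hr
      have := congrFun (congrFun hr 0) 1
      simp [hQ, ht0, hρ] at this

end CfsgLib.Classical.SpFourCover
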