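import Cfsg.Agent.Lib.Classical.SpFourCover.TwoByTwo
import Cfsg.Agent.Lib.PGroup.BorelSp

/-!
# Conjugates of the element `diag(c, c⁻ᵀ)` of the Siegel Levi subgroup

For the companion matrix `c` of a good parameter the element `x = diag(c, c⁻ᵀ)` is conjugate to `syl W * x`,
to `x⁻¹` and to `x⁻¹ * sy S` for all symmetric `W`, `S`.
-/

set_option autoImplicit false
set_option linter.unusedSectionVars false

namespace CfsgLib.Classical.SpFourCover

open Matrix CfsgLib.PGroup.BorelSp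

variable {F : Type*} [Field F] {e : F}

/-- The companion matrix as an element of `GL_2`. -/
noncomputable def cG (he : GoodParam e) : GL (Fin 2) F :=
  ⟨cm 1 e, cmInv e, cm_mul_cmInv he.ne_zero, cmInv_mul_cm he.ne_zero⟩

/-- The semisimple element. -/
noncomputable def xel (he : GoodParam e) : Sp 2 F := lev (cG he)

/-- No symmetric form is fixed by the transpose of the companion matrix. -/
theorem fix_zero' (he : GoodParam e) (p r s : F) (h1 : p = e * e * s) (h2 : r * (1 + e) = -(e * s))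
    (h3 : p + 2 * r = 0) : p = 0 ∧ r = 0 ∧ s = 0 := by
  have hm1 : 2 + e ≠ 0 := fun h => he.noroot (-1) (by linear_combination h)
  have key : (1 - e) * (e * (2 + e)) * s = 0 := by
    linear_combination 2 * h2 + (1 + e) * h1 - (1 + e) * h3
  have hs : s = 0 :=
    (mul_eq_zero.1 key).resolve_left
      (mul_ne_zero (sub_ne_zero.2 he.ne_one.symm) (mul_ne_zero he.ne_zero hm1))
  subst hs
  have hp : p = 0 := by linear_combination h1
  refine ⟨hp, ?_, rfl⟩
  rcases mul_eq_zero.1 (show r * (1 + e) = 0 by linear_combination h2) with hr | hr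
  · exact hr
  · have he1 : e = -1 := by linear_combination hr
    have h2' : (2 : F) ≠ 0 := fun h => he.ne_one (by rw [he1]; linear_combination -h)
    exact (mul_eq_zero.1 (show (2 : F) * r = 0 by linear_combination h3 - hp)).resolve_left h2'

theorem exists_left [Finite F] (he : GoodParam e) (V : Matrix (Fin 2) (Fin 2) F) (hV : Vᵀ = V) :
    ∃ W : Matrix (Fin 2) (Fin 2) F, Wᵀ = W ∧ W - (cmInv e)ᵀ * W * cmInv e = V := by
  have hsym : ∀ W : {W : Matrix (Fin 2) (Fin 2) F // Wᵀ = W},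
      (W.1 - (cmInv e)ᵀ * W.1 * cmInv e)ᵀ = W.1 - (cmInv e)ᵀ * W.1 * cmInv e := fun W => by
    simp [W.2, Matrix.mul_assoc]
  let T : {W : Matrix (Fin 2) (Fin 2) F // Wᵀ = W} → {W : Matrix (Fin 2) (Fin 2) F // Wᵀ = W} :=
    fun W => ⟨_, hsym W⟩
  have hinj : Function.Injective T := by
    intro W W' h
    have h' : W.1 - W'.1 = (cmInv e)ᵀ * (W.1 - W'.1) * cmInv e := by
      have := congrArg Subtype.val h
      simp only [T] at this
      rw [Matrix.mul_sub, Matrix.sub_mul, sub_eq_sub_iff_sub_eq_sub.1 this]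
    have hD : (cm 1 e)ᵀ * (W.1 - W'.1) * cm 1 e = W.1 - W'.1 := by
      conv_lhs => rw [h']
      rw [← Matrix.mul_assoc, ← Matrix.mul_assoc, ← transpose_mul, cmInv_mul_cm he.ne_zero,
        transpose_one, Matrix.one_mul, Matrix.mul_assoc, cmInv_mul_cm he.ne_zero, Matrix.mul_one]
    set D := W.1 - W'.1 with hDd
    have hDs : D 1 0 = D 0 1 := by
      have : Dᵀ = D := by rw [hDd, transpose_sub, W.2, W'.2]
      exact congrFun (congrFun this 0) 1
    have e1 := congrFun (congrFun hD 0) 0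
    have e2 := congrFun (congrFun hD 0) 1
    have e3 := congrFun (congrFun hD 1) 1
    simp [cm, Matrix.mul_apply, Fin.sum_univ_two, Matrix.vecMul, dotProduct, hDs] at e1 e2 e3
    obtain ⟨hp, hr, hs⟩ := fix_zero he (D 0 0) (D 0 1) (D 1 1) e1 (by linear_combination -e2)
      (by linear_combination -e1 - e3)
    refine Subtype.ext (sub_eq_zero.1 ?_)
    rw [← hDd]
    ext i j
    fin_cases i <;> fin_cases j <;> simp [hp, hr, hs, hDs]
  obtain ⟨W, hW⟩ := (Finite.injective_iff_surjective.1 hinj) ⟨V, hV⟩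
  exact ⟨W.1, W.2, congrArg Subtype.val hW⟩

theorem exists_right [Finite F] (he : GoodParam e) (V : Matrix (Fin 2) (Fin 2) F) (hV : Vᵀ = V) :
    ∃ W : Matrix (Fin 2) (Fin 2) F, Wᵀ = W ∧ cm 1 e * W * (cm 1 e)ᵀ - W = V := by
  have hsym : ∀ W : {W : Matrix (Fin 2) (Fin 2) F // Wᵀ = W},
      (cm 1 e * W.1 * (cm 1 e)ᵀ - W.1)ᵀ = cm 1 e * W.1 * (cm 1 e)ᵀ - W.1 := fun W => by
    simp [W.2, Matrix.mul_assoc]
  let T : {W : Matrix (Fin 2) (Fin 2) F // Wᵀ = W} → {W : Matrix (Fin 2) (Fin 2) F // Wᵀ = W} :=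
    fun W => ⟨_, hsym W⟩
  have hinj : Function.Injective T := by
    intro W W' h
    have hD : cm 1 e * (W.1 - W'.1) * (cm 1 e)ᵀ = W.1 - W'.1 := by
      have := congrArg Subtype.val h
      simp only [T] at this
      rw [Matrix.mul_sub, Matrix.sub_mul]
      exact sub_eq_sub_iff_sub_eq_sub.1 this
    set D := W.1 - W'.1 with hDd
    have hDs : D 1 0 = D 0 1 := by
      have : Dᵀ = D := by rw [hDd, transpose_sub, W.2, W'.2]
      exact congrFun (congrFun this 0) 1
    have e1 := congrFun (congrFun hD 0) 0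
    have e2 := congrFun (congrFun hD 0) 1
    have e3 := congrFun (congrFun hD 1) 1
    simp [cm, Matrix.mul_apply, Fin.sum_univ_two, Matrix.vecMul, dotProduct, hDs] at e1 e2 e3
    obtain ⟨hp, hr, hs⟩ := fix_zero' he (D 0 0) (D 0 1) (D 1 1) (by linear_combination -e1)
      (by linear_combination -e2) (by linear_combination e3)
    refine Subtype.ext (sub_eq_zero.1 ?_)
    rw [← hDd]
    ext i j
    fin_cases i <;> fin_cases j <;> simp [hp, hr, hs, hDs]
  obtain ⟨W, hW⟩ := (Finite.injective_iff_surjective.1 hinj) ⟨V, hV⟩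
  exact ⟨W.1, W.2, congrArg Subtype.val hW⟩

/-- `syl V * x` is conjugate to `x`. -/
theorem isConj_syl_mul [Finite F] (he : GoodParam e) (V : Matrix (Fin 2) (Fin 2) F) (hV : Vᵀ = V) :
    IsConj (xel he) (syl V hV * xel he) := by
  obtain ⟨W, hW, hWV⟩ := exists_left he V hV
  refine isConj_iff.2 ⟨syl W hW, ?_⟩
  rw [mul_inv_eq_iff_eq_mul]
  refine Subtype.ext ?_
  show fromBlocks _ _ _ _ * fromBlocks _ _ _ _ =
    fromBlocks _ _ _ _ * fromBlocks _ _ _ _ * fromBlocks _ _ _ _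
  rw [fromBlocks_multiply, fromBlocks_multiply, fromBlocks_multiply]
  simp [cG, -Matrix.coe_units_inv, ← hWV, Matrix.sub_mul, Matrix.mul_assoc,
    cmInv_mul_cm he.ne_zero]

/-- `x⁻¹ * sy V` is conjugate to `x⁻¹`. -/
theorem isConj_inv_mul_sy [Finite F] (he : GoodParam e) (V : Matrix (Fin 2) (Fin 2) F)
    (hV : Vᵀ = V) : IsConj (xel he)⁻¹ ((xel he)⁻¹ * sy V hV) := by
  obtain ⟨W, hW, hWV⟩ := exists_right he V hV
  refine isConj_iff.2 ⟨sy W hW, ?_⟩
  have h := lev_conj_sy (cG he) W hW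
  rw [mul_inv_eq_iff_eq_mul, mul_assoc, sy_mul, eq_inv_mul_iff_mul_eq, ← mul_assoc, xel, h]
  exact sy_congr (by simp [cG, ← hWV]) _ _

/-- `x` is conjugate to its inverse. -/
theorem isConj_inv (he : GoodParam e) : IsConj (xel he) (xel he)⁻¹ := by
  have h0 := he.ne_zero
  obtain ⟨P, hP, hcP⟩ := sim (cmInv e) (cmInv e)ᵀ (not_scalar_of (by simp [cmInv, h0]))
    (not_scalar_of (by simp [cmInv, h0, he.ne_zero])) rfl (det_transpose _).symm
  let cT : GL (Fin 2) F :=
    ⟨(cmInv e)ᵀ, (cm 1 e)ᵀ, by rw [← transpose_mul, cm_mul_cmInv h0, transpose_one],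
      by rw [← transpose_mul, cmInv_mul_cm h0, transpose_one]⟩
  let Pg : GL (Fin 2) F := GeneralLinearGroup.mkOfDetNeZero P hP
  have h1 : (cG he)⁻¹ = Pg * cT * Pg⁻¹ := by
    rw [eq_mul_inv_iff_mul_eq]
    exact Units.ext hcP
  let w : Sp 2 F := ⟨Matrix.J (Fin 2) F, SymplecticGroup.J_mem _ _⟩
  have h2 : lev cT = w * xel he * w⁻¹ := by
    rw [eq_mul_inv_iff_mul_eq]
    refine Subtype.ext ?_
    show fromBlocks _ _ _ _ * fromBlocks _ _ _ _ = fromBlocks _ _ _ _ * fromBlocks _ _ _ _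
    rw [fromBlocks_multiply, fromBlocks_multiply]
    simp [cG, cT, -Matrix.coe_units_inv]
  refine isConj_iff.2 ⟨lev Pg * w, ?_⟩
  have h3 : (xel he)⁻¹ = lev Pg * lev cT * (lev Pg)⁻¹ := by
    rw [xel, ← map_inv, h1, map_mul, map_mul, map_inv]
  rw [h3, h2]
  group

/-- An element of the form `syl Z * lev G * sy S`, where `G` is the product of a conjugate of `c` and a
conjugate of `c⁻¹`, is a product of two conjugates of `x`. -/
theorem exists_two [Finite F] (he : GoodParam e) (P R : GL (Fin 2) F)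
    (Z S : Matrix (Fin 2) (Fin 2) F) (hZ : Zᵀ = Z) (hS : Sᵀ = S) :
    ∃ a b, IsConj (xel he) a ∧ IsConj (xel he) b ∧
      syl Z hZ * lev (P * cG he * P⁻¹ * (R * (cG he)⁻¹ * R⁻¹)) * sy S hS = a * b := by
  refine ⟨syl Z hZ * (lev P * xel he * (lev P)⁻¹),
    lev R * (xel he)⁻¹ * (lev R)⁻¹ * sy S hS, ?_, ?_, ?_⟩
  · have hZ' : (P.1ᵀ * Z * P.1)ᵀ = P.1ᵀ * Z * P.1 := by simp [hZ, Matrix.mul_assoc]
    refine (isConj_syl_mul he _ hZ').trans (isConj_iff.2 ⟨lev P, ?_⟩)
    have h : lev P * syl (P.1ᵀ * Z * P.1) hZ' = syl Z hZ * lev P := by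
      have h1 : (P⁻¹).1ᵀ * P.1ᵀ = 1 := by
        rw [← transpose_mul, ← Units.val_mul, mul_inv_cancel]; simp
      refine Subtype.ext ?_
      show fromBlocks _ _ _ _ * fromBlocks _ _ _ _ = fromBlocks _ _ _ _ * fromBlocks _ _ _ _
      rw [fromBlocks_multiply, fromBlocks_multiply]
      simp [-Matrix.coe_units_inv, ← Matrix.mul_assoc, h1]
    rw [← mul_assoc, h]
    simp only [mul_assoc]
  · have hS' : ((R⁻¹).1 * S * (R⁻¹).1ᵀ)ᵀ = (R⁻¹).1 * S * (R⁻¹).1ᵀ := by simp [hS, Matrix.mul_assoc]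
    refine ((isConj_inv he).trans (isConj_inv_mul_sy he _ hS')).trans (isConj_iff.2 ⟨lev R, ?_⟩)
    have h := lev_conj_sy R⁻¹ S hS
    rw [map_inv, inv_inv] at h
    rw [← h]
    group
  · rw [map_mul, map_mul, map_mul, map_mul, map_mul, map_inv, map_inv, map_inv, xel]
    group

end CfsgLib.Classical.SpFourCover
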