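import Cfsg.Agent.Lib.Classical.SpFourCover.Cases
import Cfsg.Agent.Lib.Classical.SpFourCover.Siegel
import Cfsg.Agent.Lib.Classical.SympMatrix

/-!
# A semisimple class of `PSp_4(q)` whose square covers the non-identity elements
-/

set_option autoImplicit false
set_option linter.unusedSectionVars false

namespace CfsgLib.Classical.SpFourCover

open Matrix Module CfsgLib.PGroup.BorelSp

variable {F : Type*} [Field F]

/-- The matrix of a frame. -/
noncomputable def frameElt (φ : Frame (sympBil F 2)) : Sp 2 F :=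
  ⟨Matrix.of fun a b => Sum.elim ![φ.l1, φ.l2] ![φ.m1, φ.m2] b a, by
    rw [mem_symplecticGroup_iff_preserves]
    intro u v
    have hmv : ∀ u : Fin 2 ⊕ Fin 2 → F,
        (Matrix.of fun a b => Sum.elim ![φ.l1, φ.l2] ![φ.m1, φ.m2] b a) *ᵥ u =
          u (.inl 0) • φ.l1 + u (.inl 1) • φ.l2 + u (.inr 0) • φ.m1 + u (.inr 1) • φ.m2 := fun u => by
      funext a
      simp [Matrix.mulVec, dotProduct, Fintype.sum_sum_type, Fin.sum_univ_two, add_assoc, mul_comm]
    have hA := sympBil_isAlt (F := F) 2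
    rw [hmv, hmv, ← sympBil_apply, sympForm_eq, Fin.sum_univ_two]
    have h11' : sympBil F 2 φ.l1 φ.m1 = -1 := by rw [alt_swap hA, φ.h11]
    have h22' : sympBil F 2 φ.l2 φ.m2 = -1 := by rw [alt_swap hA, φ.h22]
    have h12' : sympBil F 2 φ.l2 φ.m1 = 0 := by rw [alt_swap hA, φ.h12, neg_zero]
    have h21' : sympBil F 2 φ.l1 φ.m2 = 0 := by rw [alt_swap hA, φ.h21, neg_zero]
    have hll' : sympBil F 2 φ.l2 φ.l1 = 0 := by rw [alt_swap hA, φ.ll, neg_zero]
    have hmm' : sympBil F 2 φ.m2 φ.m1 = 0 := by rw [alt_swap hA, φ.mm, neg_zero]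
    simp [hA φ.l1, hA φ.l2, hA φ.m1, hA φ.m2, φ.ll, hll', φ.mm, hmm', φ.h11, h11', φ.h22, h22',
      φ.h12, h12', φ.h21, h21']
    ring⟩

theorem frameElt_col (φ : Frame (sympBil F 2)) (b : Fin 2 ⊕ Fin 2) :
    (frameElt φ).1 *ᵥ Pi.single b 1 = Sum.elim ![φ.l1, φ.l2] ![φ.m1, φ.m2] b := by
  funext a
  simp [frameElt, Matrix.mulVec_single]

/-- The entries of the conjugate by a frame. -/
theorem frame_conj (φ : Frame (sympBil F 2)) (M : Sp 2 F) (i j : Fin 2) :
    b11 ((frameElt φ)⁻¹ * M * frameElt φ) i j =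
      sympBil F 2 (![φ.m1, φ.m2] i) (M.1 *ᵥ ![φ.l1, φ.l2] j) := by
  set N := (frameElt φ)⁻¹ * M * frameElt φ with hN
  have hPN : (frameElt φ).1 * N.1 = M.1 * (frameElt φ).1 :=
    congrArg Subtype.val (show frameElt φ * N = M * frameElt φ by rw [hN]; group)
  have h1 := frameElt_col φ (.inr i)
  have h2 := frameElt_col φ (.inl j)
  simp only [Sum.elim_inr, Sum.elim_inl] at h1 h2
  rw [← h1, ← h2, Matrix.mulVec_mulVec, ← hPN, ← Matrix.mulVec_mulVec, sympBil_apply,
    (mem_symplecticGroup_iff_preserves 2).1 (frameElt φ).2, sympForm_eq]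
  simp [Pi.single_apply, b11, Matrix.toBlocks₁₁, Matrix.mulVec_single]

theorem frame_conj_block (φ : Frame (sympBil F 2)) (M : Sp 2 F) :
    b11 ((frameElt φ)⁻¹ * M * frameElt φ) = φ.block (spLin 2 M) := by
  ext i j
  rw [frame_conj]
  fin_cases i <;> fin_cases j <;> simp [Frame.block, spLin_apply]

theorem frame_conj_fixed (φ : Frame (sympBil F 2)) (M : Sp 2 F) (r : F)
    (h1 : spLin 2 M φ.l1 = r • φ.l1) (h2 : spLin 2 M φ.l2 = r • φ.l2) :
    b21 ((frameElt φ)⁻¹ * M * frameElt φ) = 0 ∧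
      b11 ((frameElt φ)⁻¹ * M * frameElt φ) = r • 1 := by
  set N := (frameElt φ)⁻¹ * M * frameElt φ with hN
  have hPN : (frameElt φ).1 * N.1 = M.1 * (frameElt φ).1 :=
    congrArg Subtype.val (show frameElt φ * N = M * frameElt φ by rw [hN]; group)
  rw [spLin_apply] at h1 h2
  have hcol : ∀ j : Fin 2, N.1 *ᵥ Pi.single (.inl j) 1 = r • Pi.single (Sum.inl j) (1 : F) := by
    intro j
    refine (spLin 2 (frameElt φ)).injective ?_
    rw [spLin_apply, spLin_apply, Matrix.mulVec_mulVec, hPN, ← Matrix.mulVec_mulVec,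
      Matrix.mulVec_smul, frameElt_col, Sum.elim_inl]
    fin_cases j
    · simpa using h1
    · simpa using h2
  constructor
  · ext i j
    have := congrFun (hcol j) (.inr i)
    simpa [b21, Matrix.toBlocks₂₁, Matrix.mulVec_single] using this
  · ext i j
    have := congrFun (hcol j) (.inl i)
    simpa [b11, Matrix.toBlocks₁₁, Matrix.mulVec_single, Pi.single_apply, Matrix.one_apply] using this

/-- The projection. -/
noncomputable abbrev proj : Sp 2 F →* Cfsg.PSp 2 F :=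
  QuotientGroup.mk' (Subgroup.center (Matrix.symplecticGroup (Fin 2) F))

theorem not_scalar_of_proj_ne_one (M : Sp 2 F) (hM : proj M ≠ 1) :
    ¬ ∃ r : F, ∀ x, spLin 2 M x = r • x := by
  rintro ⟨r, hr⟩
  refine hM ((QuotientGroup.eq_one_iff _).2 (Subgroup.mem_center_iff.2 fun N => Subtype.ext ?_))
  have hM1 : M.1 = r • 1 := Matrix.ext_of_mulVec_single fun i => by
    rw [← spLin_apply, hr, Matrix.smul_mulVec, Matrix.one_mulVec]
  show N.1 * M.1 = M.1 * N.1
  simp [hM1]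

theorem isConj_mk {x a : Sp 2 F} (h : IsConj x a) :
    ∃ u : Cfsg.PSp 2 F, proj a = u * proj x * u⁻¹ := by
  obtain ⟨c, hc⟩ := isConj_iff.1 h
  exact ⟨proj c, by rw [← hc, map_mul, map_mul, map_inv]⟩

/-- Every non-central element is, modulo the centre, a product of two conjugates of `xel`. -/
theorem exists_conj_pair [Finite F] {e : F} (he : GoodParam e) {t : F} (ht0 : t ≠ 0) (ht1 : t ≠ 1)
    (M : Sp 2 F) (hM : proj M ≠ 1) :
    ∃ a b, IsConj (xel he) a ∧ IsConj (xel he) b ∧ proj M = proj (a * b) := by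
  have hgood := hasFrame (B := sympBil F 2) (g := spLin 2 M) (fun x y => by
      rw [sympBil_apply, sympBil_apply, spLin_apply, spLin_apply]
      exact (mem_symplecticGroup_iff_preserves 2).1 M.2 x y)
    (sympBil_isAlt 2) (sympBil_nondegenerate 2) (by simp) ht0 ht1 (not_scalar_of_proj_ne_one M hM)
  suffices h : ∃ (φ : Frame (sympBil F 2)) (a b : Sp 2 F), IsConj (xel he) a ∧ IsConj (xel he) b ∧
      proj ((frameElt φ)⁻¹ * M * frameElt φ) = proj (a * b) by
    obtain ⟨φ, a, b, ha, hb, hab⟩ := h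
    set P := frameElt φ
    refine ⟨P * a * P⁻¹, P * b * P⁻¹, ha.trans (isConj_iff.2 ⟨P, rfl⟩),
      hb.trans (isConj_iff.2 ⟨P, rfl⟩), ?_⟩
    rw [show M = P * (P⁻¹ * M * P) * P⁻¹ by group,
      show P * a * P⁻¹ * (P * b * P⁻¹) = P * (a * b) * P⁻¹ by group]
    simp only [map_mul proj P, map_mul proj _ P⁻¹, hab]
  rcases hgood with ⟨φ, r, hr, h1, h2⟩ | ⟨φ, hd, htr, hns⟩
  · refine ⟨φ, ?_⟩
    obtain ⟨h21, h11⟩ := frame_conj_fixed φ M r h1 h2
    obtain ⟨G, S, hS, hN, hG⟩ := exists_lev_sy h21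
    rw [h11] at hG
    have hrr : r * r = 1 := by rcases hr with rfl | rfl <;> ring
    have hGinv : (G⁻¹).1 = r • (1 : Matrix (Fin 2) (Fin 2) F) := by
      refine (congrArg Units.val (inv_eq_of_mul_eq_one_right (a := G) (b := G) (Units.ext ?_))).trans hG
      rw [Units.val_mul, hG, Matrix.smul_mul, Matrix.one_mul, smul_smul, hrr, one_smul, Units.val_one]
    have hcen : lev G ∈ Subgroup.center (Sp 2 F) := by
      refine Subgroup.mem_center_iff.2 fun N => Subtype.ext ?_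
      show N.1 * fromBlocks G.1 0 0 (G⁻¹).1ᵀ = fromBlocks G.1 0 0 (G⁻¹).1ᵀ * N.1
      rw [hG, hGinv, transpose_smul, transpose_one,
        show fromBlocks (r • (1 : Matrix (Fin 2) (Fin 2) F)) 0 0 (r • 1) = r • 1 by
          rw [← fromBlocks_one, fromBlocks_smul, smul_zero]]
      simp
    refine ⟨xel he, (xel he)⁻¹ * sy S hS, IsConj.refl _,
      (isConj_inv he).trans (isConj_inv_mul_sy he S hS), ?_⟩
    rw [hN, mul_inv_cancel_left, map_mul, show proj (lev G) = 1 from (QuotientGroup.eq_one_iff _).2 hcen,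
      one_mul]
  · refine ⟨φ, ?_⟩
    set N := (frameElt φ)⁻¹ * M * frameElt φ with hNdef
    rw [← frame_conj_block, ← hNdef] at hd htr hns
    obtain ⟨P, R, hP, hR, hA⟩ := exists_product he (b11 N) hns hd htr
    let Pg : GL (Fin 2) F := GeneralLinearGroup.mkOfDetNeZero P hP
    let Rg : GL (Fin 2) F := GeneralLinearGroup.mkOfDetNeZero R hR
    set G : GL (Fin 2) F := Pg * cG he * Pg⁻¹ * (Rg * (cG he)⁻¹ * Rg⁻¹) with hG
    have hGA : G.1 = b11 N := by
      rw [hA, hG]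
      simp only [Units.val_mul]
      rw [show ((cG he)⁻¹).1 = cmInv e from rfl]
      simp only [Matrix.coe_units_inv]
      rfl
    obtain ⟨hrel, -, -⟩ := rel N
    have hi : G.1 * (G⁻¹).1 = 1 := by rw [← Units.val_mul, mul_inv_cancel, Units.val_one]
    have hi' : (G⁻¹).1 * G.1 = 1 := by rw [← Units.val_mul, inv_mul_cancel, Units.val_one]
    have hZ : (b21 N * (G⁻¹).1)ᵀ = b21 N * (G⁻¹).1 := by
      calc (b21 N * (G⁻¹).1)ᵀ = (G⁻¹).1ᵀ * ((b21 N)ᵀ * b11 N) * (G⁻¹).1 := by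
            rw [transpose_mul, Matrix.mul_assoc, Matrix.mul_assoc, ← hGA, hi, Matrix.mul_one]
        _ = b21 N * (G⁻¹).1 := by
            rw [← hrel, ← Matrix.mul_assoc, ← hGA, ← transpose_mul, hi, transpose_one, Matrix.one_mul]
    set N' := (syl _ hZ)⁻¹ * N with hN'
    have h21 : b21 N' = 0 := by
      rw [hN', syl_inv, (blocks_mul _ N).2.2.1, syl_b21, syl_b22, Matrix.neg_mul, Matrix.one_mul,
        Matrix.mul_assoc, ← hGA, hi', Matrix.mul_one, neg_add_cancel]
    have h11 : b11 N' = G.1 := by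
      rw [hN', syl_inv, (blocks_mul _ N).1, syl_b11, syl_b12, Matrix.one_mul, Matrix.zero_mul,
        add_zero, hGA]
    obtain ⟨G', S, hS, hN'', hG'⟩ := exists_lev_sy h21
    have hGG : G' = G := Units.ext (hG'.trans h11)
    rw [hGG, hN', inv_mul_eq_iff_eq_mul, ← mul_assoc] at hN''
    obtain ⟨a, b, ha, hb, hab⟩ := exists_two he Pg Rg _ S hZ hS
    exact ⟨a, b, ha, hb, by rw [hN'']; exact congrArg proj hab⟩

theorem main [Fintype F] (p : ℕ) [Fact p.Prime] [CharP F p] (h3 : 3 ≤ Fintype.card F) :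
    ∃ x : Cfsg.PSp 2 F, ¬ p ∣ orderOf x ∧ ∀ g : Cfsg.PSp 2 F, g ≠ 1 →
      ∃ u v : Cfsg.PSp 2 F, g = (u * x * u⁻¹) * (v * x * v⁻¹) := by
  classical
  obtain ⟨e, he⟩ := exists_goodParam h3
  obtain ⟨t, -, ht⟩ : ∃ t ∈ (Finset.univ : Finset F), t ∉ ({0, 1} : Finset F) := by
    refine Finset.exists_mem_notMem_of_card_lt_card ?_
    have := Finset.card_le_two (a := (0 : F)) (b := 1)
    rw [Finset.card_univ]; omega
  simp only [Finset.mem_insert, Finset.mem_singleton, not_or] at ht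
  refine ⟨proj (xel he), ?_, fun g hg => ?_⟩
  · intro hp
    have h1 : orderOf (cm 1 e) = orderOf (cG he) := orderOf_units (y := cG he)
    refine not_dvd_orderOf (p := p) he (orderOf_pos_iff.1 (h1 ▸ orderOf_pos (cG he))) ?_
    rw [h1]
    exact hp.trans ((orderOf_map_dvd proj _).trans (orderOf_map_dvd lev _))
  · obtain ⟨M, rfl⟩ := QuotientGroup.mk_surjective g
    obtain ⟨a, b, ha, hb, hab⟩ := exists_conj_pair he ht.1 ht.2 M hg
    obtain ⟨u, hu⟩ := isConj_mk ha
    obtain ⟨v, hv⟩ := isConj_mk hb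
    exact ⟨u, v, by rw [show (QuotientGroup.mk M : Cfsg.PSp 2 F) = proj M from rfl, hab, map_mul, hu, hv]⟩

end CfsgLib.Classical.SpFourCover
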